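import Groth.Prelude.Def_EssDim
import Mathlib.RingTheory.AlgebraicIndependent.AlgebraicClosure
import Mathlib.RingTheory.AlgebraicIndependent.TranscendenceBasis

/-!
Essential dimension does not grow under extension of the base field.
-/

set_option autoImplicit false
set_option linter.style.haveILetI false

noncomputable section

universe u w

open CategoryTheory AlgebraicGeometry Opposite

namespace Groth.Agent.EssDim99

variable {k K L : Type u} [Field k] [Field K] [Algebra k K] [Field L] [Algebra k L] [Algebra K L]
  [IsScalarTower k K L]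

/-- The compositum with the base. -/
abbrev comp' (F : IntermediateField k L) : IntermediateField K L :=
  IntermediateField.adjoin K (F : Set L)

/-- The inclusion into the compositum. -/
def incl (F : IntermediateField k L) : F →ₐ[k] comp' (K := K) F where
  toFun x := ⟨x.1, IntermediateField.subset_adjoin K _ x.2⟩
  map_one' := rfl
  map_mul' _ _ := rfl
  map_zero' := rfl
  map_add' _ _ := rfl
  commutes' c := Subtype.ext rfl

theorem trdeg_le (F : IntermediateField k L) :
    Algebra.trdeg K (comp' (K := K) F) ≤ Algebra.trdeg k F := by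
  classical
  obtain ⟨s, hs⟩ := exists_isTranscendenceBasis k F
  let g := incl (K := K) F
  let t : Set (comp' (K := K) F) := g '' s
  have hcard : Cardinal.mk t ≤ Algebra.trdeg k F := by
    rw [← hs.cardinalMk_eq_trdeg]; exact Cardinal.mk_image_le
  suffices Algebra.IsAlgebraic (Algebra.adjoin K t) (comp' (K := K) F) from
    (Algebra.IsAlgebraic.trdeg_le_cardinalMk K t).trans hcard
  rw [← IntermediateField.isAlgebraic_adjoin_iff_top]
  let E := IntermediateField.adjoin K t
  have halg : ∀ x : F, IsAlgebraic E (g x) := by
    intro x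
    haveI := hs.isAlgebraic
    have hx : IsAlgebraic (Algebra.adjoin k (Set.range ((↑) : s → F))) x :=
      Algebra.IsAlgebraic.isAlgebraic x
    have hmem : ∀ y ∈ Algebra.adjoin k (Set.range ((↑) : s → F)), g y ∈ E := by
      intro y hy
      induction hy using Algebra.adjoin_induction with
      | mem y hy =>
        obtain ⟨z, rfl⟩ := hy
        exact IntermediateField.subset_adjoin K _ ⟨z.1, z.2, rfl⟩
      | algebraMap c =>
        rw [AlgHom.commutes, IsScalarTower.algebraMap_apply k K]
        exact E.algebraMap_mem _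
      | add a b _ _ ha hb => rw [map_add]; exact add_mem ha hb
      | mul a b _ _ ha hb => rw [map_mul]; exact mul_mem ha hb
    let h : Algebra.adjoin k (Set.range ((↑) : s → F)) →+* E :=
      (g.toRingHom.comp (Algebra.adjoin k _).subtype).codRestrict E fun y => hmem y.1 y.2
    refine hx.ringHom_of_comp_eq h g ?_ ?_
    · intro a b hab
      exact Subtype.ext (g.toRingHom.injective (congrArg Subtype.val hab))
    · ext y; rfl
  refine ⟨fun y => ?_⟩
  let A : IntermediateField K (comp' (K := K) F) :=
    (algebraicClosure E (comp' (K := K) F)).restrictScalars K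
  have hle : comp' (K := K) F ≤ IntermediateField.lift A := by
    rw [IntermediateField.adjoin_le_iff]
    intro x hx
    exact ⟨g ⟨x, hx⟩, mem_algebraicClosure_iff'.mpr (halg ⟨x, hx⟩).isIntegral, rfl⟩
  obtain ⟨z, hz, hzy⟩ := hle y.2
  obtain rfl : z = y := Subtype.ext hzy
  exact (mem_algebraicClosure_iff'.mp hz).isAlgebraic

/-- The comparison of points over the two bases. -/
def cmp (M : Type u) [Field M] [Algebra k M] [Algebra K M] [IsScalarTower k K M] :
    (Over.map (Spec.map (CommRingCat.ofHom (algebraMap k K)))).obj (SGA7.pt (K := K) M) ≅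
      SGA7.pt (K := k) M :=
  Over.isoMk (Iso.refl _) (by
    show 𝟙 _ ≫ Spec.map _ = Spec.map _ ≫ Spec.map _
    rw [Category.id_comp, ← Spec.map_comp]
    congr 1
    exact CommRingCat.hom_ext (IsScalarTower.algebraMap_eq k K M))

theorem ed_restrict_le (P : (Over (Spec (CommRingCat.of k)))ᵒᵖ ⥤ Type w) :
    EssDim.ed (k := K) ((Over.map (Spec.map (CommRingCat.ofHom (algebraMap k K)))).op ⋙ P) ≤
      EssDim.ed P := by
  refine iSup_le fun M => iSup_le fun _ => iSup_le fun _ => iSup_le fun ξ => ?_
  letI : Algebra k M := ((algebraMap K M).comp (algebraMap k K)).toAlgebra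
  haveI : IsScalarTower k K M := IsScalarTower.of_algebraMap_eq fun _ => rfl
  let η : EssDim.FPt P M := P.map (cmp (k := k) (K := K) M).inv.op ξ
  refine le_trans (WithBot.coe_le_coe.mpr ?_)
    (le_iSup_of_le M (le_iSup_of_le inferInstance (le_iSup_of_le inferInstance
      (le_iSup_of_le η le_rfl))))
  refine le_iInf fun F => ?_
  obtain ⟨F, η₀, h⟩ := F
  let F' := comp' (K := K) F
  let ξ₀ : EssDim.FPt ((Over.map (Spec.map (CommRingCat.ofHom (algebraMap k K)))).op ⋙ P) F' :=
    P.map (cmp (k := k) (K := K) F').hom.op (EssDim.fmap (incl (K := K) F) η₀)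
  have hd : EssDim.Descends _ ξ F' := by
    refine ⟨ξ₀, ?_⟩
    show P.map _ (P.map _ (P.map _ η₀)) = ξ
    have h' : ξ = P.map (cmp (k := k) (K := K) M).hom.op (P.map (EssDim.resPt F.val).op η₀) := by
      rw [show P.map (EssDim.resPt F.val).op η₀ = η from h]
      show ξ = P.map _ (P.map _ ξ)
      rw [← Functor.map_comp_apply, ← op_comp, Iso.hom_inv_id, op_id]
      exact (Functor.map_id_apply P _ ξ).symm
    rw [h', ← Functor.map_comp_apply, ← Functor.map_comp_apply, ← Functor.map_comp_apply]
    refine congrArg (fun z => P.map z η₀) (Quiver.Hom.unop_inj ?_)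
    apply Over.OverMorphism.ext
    simp only [cmp, EssDim.resPt_left, Over.comp_left, Functor.op_map, unop_comp, Over.map_map_left,
      Quiver.Hom.unop_op, Over.isoMk_hom_left, Iso.refl_hom, Category.id_comp, Category.comp_id,
      ← Spec.map_comp]
    erw [Category.id_comp, Category.comp_id, ← Spec.map_comp]
    rfl
  refine iInf_le_of_le ⟨F', hd⟩ ?_
  exact OrderHomClass.mono _ (trdeg_le F)

end Groth.Agent.EssDim99
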